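import Cfsg.Agent.H996.PQ.Hi
import Cfsg.Agent.Nodes.RGDTwD4
import Cfsg.Agent.Nodes.RGDTwE6

/-!
# The highest root group of `³D₄(q)`, `²E₆(q)` (helper315, for S4612, [X5])

* `cen_fold` : folded root data: if the relative root `α₀` is the image of one root `s` and the commutators of `x_s` with
  all positive roots are trivial, then `X α₀` is centralised by the positive root groups;
* `cen_TwD4`, `cen_TwE6`, `hi_TwD4`, `hi_TwE6`.
-/

set_option autoImplicit false

namespace Cfsg.Agent.H315.PQ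

open CoxeterSystem Cfsg.Agent.ChevalleyStructure.CoxeterGeom Cfsg.Agent.Tits.Roots Cfsg.Agent.Nodes.RGDTwGen
  Cfsg.Agent.Nodes.RGDChev Cfsg.Agent.Nodes.RGDFold
open Cfsg.Lie Cfsg.Agent.ChevalleyStructure Cfsg.Agent.ChevalleyStructure.CoxeterGeomTypes
  Cfsg.Agent.ChevalleyStructure.TwistedU
open Cfsg.Agent.H996.PQ (Hi Cen)

universe u

theorem cen_fold {D : ChevalleyDatum} {l m : ℕ} {M' : CoxeterMatrix (Fin l)} (hp : IsType D l M') {K : Type u} [Field K]
    {M : CoxeterMatrix (Fin m)} {A : Fin m → Fin m → ℤ} {W : Type*} [Group W] (cs : CoxeterSystem M W)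
    (h : IsCartan M A) {J : Fin m → List (Fin l)} {L : List (List ℕ)} (FD : FoldData D M A J L)
    (σ : GL D.Idx K →* GL D.Idx K) (G : Subgroup (GL D.Idx K)) {s : ℕ} (hs : s < D.nroots) {α₀ : Fin m → ℤ}
    (h1 : ∀ k < D.nroots, V D J k = α₀ → k = s)
    (h2 : ∀ k ∈ L.flatten, k = s ∨ (s ≠ k ∧ s ≠ D.neg k ∧ D.commTerms k s = [])) :
    Cen cs h (fun z => (R D hp K J σ z).subgroupOf G) α₀ := by
  intro x hx hx0 a ha b hb
  apply Subtype.ext
  have ha' : (a : GL D.Idx K) ∈ rspan (Elts.xG (F := K) hp.inList) {k | k < D.nroots ∧ V D J k = x} :=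
    (Subgroup.mem_subgroupOf.1 ha).1
  have hb' : (b : GL D.Idx K) ∈ rspan (Elts.xG (F := K) hp.inList) {k | k < D.nroots ∧ V D J k = α₀} :=
    (Subgroup.mem_subgroupOf.1 hb).1
  have key : ∀ r < D.nroots, V D J r = x → ∀ t : K, ∀ u : K,
      Commute (Elts.xG hp.inList r t) (Elts.xG (F := K) hp.inList s u) := by
    intro r hr hrx t u
    have hrL : r ∈ L.flatten := (FD.posL r hr).2 fun i => by rw [hrx]; exact hx0 i
    rcases h2 r hrL with rfl | ⟨e1, e2, e3⟩
    · show _ * _ = _ * _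
      rw [Elts.xG_add, Elts.xG_add, add_comm]
    · exact commute_of_nil hp hr hs e1 e2 e3 t u
  have h3 : ∀ r < D.nroots, V D J r = x → ∀ t : K, Commute (Elts.xG hp.inList r t) (b : GL D.Idx K) := by
    intro r hr hrx t
    have h4 : rspan (Elts.xG (F := K) hp.inList) {k | k < D.nroots ∧ V D J k = α₀} ≤
        Subgroup.centralizer {Elts.xG hp.inList r t} := by
      refine rspan_le _ fun k hk u => ?_
      rw [Subgroup.mem_centralizer_singleton_iff]
      rw [h1 k hk.1 hk.2]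
      exact (key r hr hrx t u).symm
    exact (Subgroup.mem_centralizer_singleton_iff.1 (h4 hb')).symm
  have h5 : rspan (Elts.xG (F := K) hp.inList) {k | k < D.nroots ∧ V D J k = x} ≤
      Subgroup.centralizer {(b : GL D.Idx K)} := by
    refine rspan_le _ fun k hk u => ?_
    rw [Subgroup.mem_centralizer_singleton_iff]
    exact h3 k hk.1 hk.2 u
  exact Subgroup.mem_centralizer_singleton_iff.1 (h5 ha')

theorem cen_TwD4 {K : Type u} [Field K] [Fintype K] {q : ℕ} {W : Type*} [Group W]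
    (cs : CoxeterSystem CoxeterMatrix.G₂ W) (φ : K →+* K) :
    Cen cs Nodes.RGDTwD4.isCartan (Nodes.RGDTwD4.X φ q) ![2, 3] :=
  cen_fold Nodes.RGDTwD4.hp cs Nodes.RGDTwD4.isCartan Nodes.RGDTwD4.foldData _ _ (s := 23) (by decide +kernel)
    (by decide +kernel) (by decide +kernel)

theorem cen_TwE6 {K : Type u} [Field K] [Fintype K] {q : ℕ} {W : Type*} [Group W]
    (cs : CoxeterSystem CoxeterMatrix.F₄ W) (φ : K →+* K) :
    Cen cs Nodes.RGDTwE6.isCartan (Nodes.RGDTwE6.X φ q) ![2, 3, 4, 2] :=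
  cen_fold Nodes.RGDTwE6.hp cs Nodes.RGDTwE6.isCartan Nodes.RGDTwE6.foldData _ _ (s := 71) (by decide +kernel)
    (by decide +kernel) (by decide +kernel)

theorem hi_TwD4 : Hi Nodes.RGDTwD4.A 0 ![2, 3] ![3, 1] where
  sym := by decide +kernel
  pos := by decide +kernel
  nonneg := by decide +kernel
  orth := by decide +kernel
  top := by decide +kernel

theorem hi_TwE6 : Hi Nodes.RGDTwE6.A 0 ![2, 3, 4, 2] ![2, 2, 1, 1] where
  sym := by decide +kernel
  pos := by decide +kernel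
  nonneg := by decide +kernel
  orth := by decide +kernel
  top := by decide +kernel

/-- the highest roots are roots -/
theorem isRoot_TwD4 {W : Type*} [Group W] (cs : CoxeterSystem CoxeterMatrix.G₂ W) :
    IsRoot cs Nodes.RGDTwD4.isCartan ![2, 3] :=
  (Nodes.RGDTwD4.foldData.isRoot_iff Nodes.RGDTwD4.hp.checked
    (fun i r hr => wp_lt Nodes.RGDTwD4.hp (Nodes.RGDTwD4.J i) hr) _).2 ⟨23, by decide +kernel, by decide +kernel⟩

theorem isRoot_TwE6 {W : Type*} [Group W] (cs : CoxeterSystem CoxeterMatrix.F₄ W) :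
    IsRoot cs Nodes.RGDTwE6.isCartan ![2, 3, 4, 2] :=
  (Nodes.RGDTwE6.foldData.isRoot_iff Nodes.RGDTwE6.hp.checked
    (fun i r hr => wp_lt Nodes.RGDTwE6.hp (Nodes.RGDTwE6.J i) hr) _).2 ⟨71, by decide +kernel, by decide +kernel⟩

end Cfsg.Agent.H315.PQ
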